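import Cfsg.Agent.S0516
import Cfsg.Agent.S0483
import Cfsg.Agent.S0486
import Cfsg.Agent.INV.ABG.Three
import Cfsg.Agent.S0523
import Cfsg.Agent.INV.AbPSL2

set_option autoImplicit false
open Cfsg

namespace CL.ABG

/-- Simple groups of `2`-rank at most two with solvable involution centralizers. -/
theorem rank_two_of_solvable {G : Type*} [Group G] [Finite G] [IsSimpleGroup G]
    (hG : ¬ IsMulCommutative G) (h2 : Cfsg.PRankLE 2 2 G)
    (hs : ∀ t : G, orderOf t = 2 → Group.IsSolvable (Subgroup.centralizer ({t} : Set G))) :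
    (∃ (F : Type) (_ : Field F) (_ : Fintype F), Odd (Fintype.card F) ∧ 5 ≤ Fintype.card F ∧
        Nonempty (G ≃* Matrix.ProjectiveSpecialLinearGroup (Fin 2) F)) ∨
      (∃ (F : Type) (_ : Field F) (_ : Fintype F), Odd (Fintype.card F) ∧
        Nonempty (G ≃* Matrix.ProjectiveSpecialLinearGroup (Fin 3) F)) ∨
      (∃ (F : Type) (_ : Field F) (_ : Fintype F) (q : ℕ), Fintype.card F = q ^ 2 ∧ Odd q ∧
        Nonempty (G ≃* Cfsg.PSU 3 F q)) ∨
      (∃ (F : Type) (_ : Field F) (_ : Fintype F), Fintype.card F = 16 ∧ Nonempty (G ≃* Cfsg.PSU 3 F 4)) ∨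
      Nonempty (G ≃* alternatingGroup (Fin 7)) ∨
      Cfsg.IsM11 G := by
  obtain ⟨S⟩ : Nonempty (Sylow 2 G) := inferInstance
  have : Fintype (GaloisField 2 4) := Fintype.ofFinite _
  have hF : Fintype.card (GaloisField 2 4) = 16 := by
    rw [← Nat.card_eq_fintype_card, GaloisField.card 2 4 (by norm_num)]
    norm_num
  obtain ⟨P⟩ : Nonempty (Sylow 2 (Cfsg.PSU 3 (GaloisField 2 4) 4)) := inferInstance
  rcases Cfsg.Agent.S0516.result hG h2 S hF P with ⟨n, hn, e⟩ | h | h | h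
  · have := CL.AbS.isPerfect_of_simple hG
    have hO : Cfsg.oddCore G = ⊥ := by
      refine (IsSimpleGroup.eq_bot_or_eq_top_of_normal (Cfsg.oddCore G)
        inferInstance).resolve_right fun h => ?_
      have h1 := CL.coprime_card_pPrimeCore 2 G
      change (Nat.card (Cfsg.oddCore G)).Coprime 2 at h1
      rw [h, Subgroup.card_top] at h1
      obtain ⟨e⟩ := e
      have h3 := (S : Subgroup G).card_subgroup_dvd_card
      rw [Nat.card_congr e.toEquiv, DihedralGroup.nat_card] at h3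
      exact (Nat.coprime_two_right.1 h1).not_two_dvd_nat ((dvd_mul_right 2 n).trans h3)
    have i : G ≃* G ⧸ Cfsg.oddCore G :=
      ((QuotientGroup.quotientMulEquivOfEq hO).trans QuotientGroup.quotientBot).symm
    rcases Cfsg.Agent.S0483.result S n hn e with ⟨F, _, _, h1, h3, ⟨j⟩⟩ | ⟨⟨j⟩⟩
    · refine Or.inl ⟨F, _, _, h1, ?_, ⟨i.trans j⟩⟩
      obtain ⟨k, hk⟩ := h1
      omega
    · exact Or.inr (Or.inr (Or.inr (Or.inr (Or.inl ⟨i.trans j⟩))))
  · rcases sd_of_solvable S h hs with ⟨F, _, _, h1, e⟩ | h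
    · exact Or.inr (Or.inl ⟨F, _, _, by rw [h1]; decide, e⟩)
    · exact Or.inr (Or.inr (Or.inr (Or.inr (Or.inr h))))
  · rcases Cfsg.Agent.S0523.result S h with h | h | h
    · exact Or.inr (Or.inl h)
    · exact Or.inr (Or.inr (Or.inl h))
    · exact Or.inr (Or.inr (Or.inr (Or.inr (Or.inr h))))
  · exact Or.inr (Or.inr (Or.inr (Or.inl ⟨_, _, _, hF, Cfsg.Agent.S0486.result hF S P h⟩)))

end CL.ABG
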