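import Cfsg.Agent.INV.ABG.RegNE1
import Cfsg.Agent.INV.ABG.RegOvt

/-!
# Core elimination: elementary abelian sections above the null subgroup
-/

set_option autoImplicit false

namespace CL.ABG

open Cfsg CL.Char Subgroup CL.BG3 CL.PGL2 SemidirectProduct
open scoped commutatorElement MatrixGroups

theorem card_P1' {F : Type*} [Field F] [Finite F] : Nat.card (P1 F) = Nat.card F + 1 := by
  have := Fintype.ofFinite F
  rw [card_P1, Nat.card_eq_fintype_card]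

theorem eq_of_invol_fix {F : Type*} [Field F] {x y : P1 F} (hxy : x ≠ y) {j j' : PGL(2, F)}
    (h : j * j = 1 ∧ j ≠ 1 ∧ j • x = x ∧ j • y = y)
    (h' : j' * j' = 1 ∧ j' ≠ 1 ∧ j' • x = x ∧ j' • y = y) : j = j' := by
  obtain ⟨g, rfl, rfl⟩ := exists_smul_std_two hxy
  have key : ∀ j : PGL(2, F), j * j = 1 ∧ j ≠ 1 ∧ j • g • (inf : P1 F) = g • inf ∧
      j • g • pt (0 : F) = g • pt 0 → g⁻¹ * j * g = aff (-1) 0 := fun j ⟨h1, h2, h3, h4⟩ => by
    obtain ⟨a, ha⟩ := exists_aff_zero (g := g⁻¹ * j * g) (by simp [mul_smul, h3])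
      (by simp [mul_smul, h4])
    have h5 : aff a 0 * aff a 0 = 1 := by
      rw [← ha, show g⁻¹ * j * g * (g⁻¹ * j * g) = g⁻¹ * (j * j) * g by group, h1]; group
    rw [aff_mul, aff_eq_one_iff, Units.ext_iff, Units.val_mul, Units.val_one,
      mul_self_eq_one_iff] at h5
    rcases h5.1 with e | e
    · rw [Units.val_eq_one.1 e, aff_one_zero, mul_assoc, inv_mul_eq_one] at ha
      exact absurd (mul_eq_right.1 ha.symm) h2
    · rw [ha, show a = -1 from Units.ext e]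
  exact mul_left_cancel (mul_right_cancel ((key j h).trans (key j' h').symm))

namespace Ctx

variable {G : Type*} [Group G] [Finite G] {F : Type*} [Field F] [Finite F]
  {Λ : Ctx G F} {c₀ n : ℤ} {V : G → ℂ}

namespace El

variable {W : Subgroup G} {r : ℕ} (E : Λ.El W r) (h : Λ.Sm c₀ n V) {t : Λ.C}

omit [Finite F] in
theorem mem_norm {c : Λ.C} (hc : Commute c t) : (c : G) ∈ normalizer (E.K t : Set G) := by
  simpa using (E.K_eq_iff (c := 1) (d := c) (u := t)).1 (by simp [hc.eq])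

omit [Finite G] [Finite F] in
include E in
theorem three_le : (3 : ℤ) ≤ r := by
  have := E.prime.two_le
  have := E.two
  omega

section num

variable (ht : orderOf (t : G) = 2) (hz : (t : G) ≠ Λ.z) {m : ℤ} (hm : Nat.card F = r * m + 1)
  (ha : av V W t = (c₀ + 1 + m : ℤ))

include h ht hz ha

omit hz in
theorem fix_K : Nat.card F - 1 - m ≤ (fixDim V (E.K t) : ℤ) - fixDim V W := by
  have := h.sub_le (E.K_le t) (E.le_norm (E.nul_le_K t) (E.K_le t)) (E.mem_norm (Commute.refl t))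
    (E.C_le_norm t.2) (E.av_K h ht) ha
  omega

include E in
theorem fix_W : (Nat.card F + 1) * (c₀ + 1 + m) - Nat.card F * c₀ - 1 ≤ fixDim V W :=
  h.li ht (comm_z t) hz cov_C t.2 E.le E.C_le_norm ha

theorem count_lt {ι : Type*} [Fintype ι] {c : ι → Λ.C}
    (hc : ∀ i j, (c i : G)⁻¹ * c j ∈ normalizer (E.K t : Set G) → i = j) :
    Fintype.card ι * ((fixDim V (E.K t) : ℤ) - fixDim V W) <
      (Nat.card F - 1) ^ 2 + (Nat.card F + 1) * (Nat.card F - 1 - m) := by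
  have h1 := E.count h ht hz hc (fun _ => bot_le) bot_le
  have h2 := E.fix_W h ht hz ha
  have h3 : (fixDim V ⊥ : ℤ) = n := by exact_mod_cast (fixDim_bot h.hyp.char).trans h.one
  linarith [h.small]

include hm

theorem card_lt {ι : Type*} [Fintype ι] {c : ι → Λ.C}
    (hc : ∀ i j, (c i : G)⁻¹ * c j ∈ normalizer (E.K t : Set G) → i = j) :
    2 * (Fintype.card ι : ℤ) < 5 * Nat.card F - 1 := by
  have h1 := E.count_lt h ht hz ha hc
  have h2 := mul_le_mul_of_nonneg_left (E.fix_K h ht ha) (Int.natCast_nonneg (Fintype.card ι))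
  have h3 := E.three_le
  have h4 := h.big
  have h5 : 0 < m := by nlinarith
  have h6 : 3 * m ≤ Nat.card F - 1 := by nlinarith
  by_contra h7
  nlinarith [mul_le_mul (show 3 * ((Nat.card F : ℤ) - 1) ≤ 2 * (Fintype.card ι - Nat.card F - 1) by
    omega) (show 2 * ((Nat.card F : ℤ) - 1) ≤ 3 * (Nat.card F - 1 - m) by omega) (by omega) (by omega)]

/-- If the stabilizer of the hyperplane is a cover then the hyperplane is invariant. -/
theorem le_of_cov (hX : Λ.Cov (normalizer (E.K t : Set G) ⊓ Λ.C)) :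
    Λ.C ≤ normalizer (E.K t : Set G) := by
  have h1 := h.li_rel ht (comm_z t) hz hX ⟨E.mem_norm (Commute.refl t), t.2⟩ (E.K_le t) E.le
    (E.le_norm (E.nul_le_K t) (E.K_le t)) inf_le_left (inf_le_right.trans E.C_le_norm)
    (E.av_K h ht) ha
  let S := (normalizer (E.K t : Set G)).subgroupOf Λ.C
  have := Fintype.ofFinite (Λ.C ⧸ S)
  have h2 := E.count_lt h ht hz ha (c := fun i : Λ.C ⧸ S => i.out) fun i j e => by
    rw [← i.out_eq, ← j.out_eq]
    exact QuotientGroup.eq.2 e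
  obtain ⟨Q, hQ, hC⟩ := hX.exists_sylow h.sd
  obtain ⟨k, hk⟩ := Nat.odd_iff.2 (Nat.two_dvd_ne_zero.1 fun e : 2 ∣ S.index => Q.not_dvd_index
    (e.trans ((relIndex_dvd_of_le_left _ (hQ.trans inf_le_left)).trans
      (relIndex_dvd_index_of_le hC))))
  rw [← Nat.card_eq_fintype_card, ← index_eq_card, hk] at h2
  refine relIndex_eq_one.1 (hk.trans ?_)
  have h3 := E.three_le
  have h4 := h.big
  have h5 : 0 < m := by nlinarith
  have h6 : 3 * m ≤ Nat.card F - 1 := by nlinarith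
  by_contra h7
  have h8 : (3 : ℤ) ≤ (2 * k + 1 : ℕ) := by omega
  nlinarith [mul_le_mul h8 h1 (mul_nonneg (by omega) (by omega)) (by omega),
    mul_le_mul_of_nonneg_left (show 2 * ((Nat.card F : ℤ) - 1) ≤ 3 * (Nat.card F - 1 - m) by omega)
      (show (0 : ℤ) ≤ Nat.card F + 1 by omega)]

theorem not_pair {x y : P1 F} (hxy : x ≠ y) (h1 : ∀ (c : Λ.C) (g : PGL(2, F)), Λ.q.π c = inl g →
    (c : G) ∈ normalizer (E.K t : Set G) → (g • x = x ∧ g • y = y) ∨ (g • x = y ∧ g • y = x)) :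
    False := by
  classical
  have := Fintype.ofFinite (P1 F)
  have h2 : ∀ s : {s : Finset (P1 F) // s.card = 2}, ∃ (c : Λ.C) (g : PGL(2, F)),
      Λ.q.π c = inl g ∧ s.1 = {g • x, g • y} := fun s => by
    obtain ⟨a, b, hab, e⟩ := Finset.card_eq_two.1 s.2
    obtain ⟨g, rfl, rfl⟩ := exists_smul_two hxy hab
    obtain ⟨c, hc⟩ := Λ.q.pgl g
    exact ⟨c, g, hc, e⟩
  choose c g hc hg using h2
  have h3 := E.card_lt h ht hz hm ha (c := c) fun i j e => Subtype.ext (by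
    have := h1 ((c i)⁻¹ * c j) ((g i)⁻¹ * g j) (by simp [hc]) e
    simp only [mul_smul, inv_smul_eq_iff] at this
    rcases this with e | e <;> simp [hg, e.1, e.2, Finset.pair_comm])
  rw [Fintype.card_finset_len, ← Nat.card_eq_fintype_card, card_P1', ← Nat.cast_ofNat,
    ← Nat.cast_mul, Nat.choose_two_right, Nat.mul_div_cancel' (Nat.even_mul_pred_self _).two_dvd,
    Nat.add_sub_cancel] at h3
  push_cast at h3
  nlinarith [h.big]

variable {x : P1 F} (h1 : ∀ (c : Λ.C) (g : PGL(2, F)), Λ.q.π c = inl g →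
  (c : G) ∈ normalizer (E.K t : Set G) → g • x = x)

include h1

theorem core_le {a : Λ.C} (h2 : a ∈ oddCore Λ.C) : (a : G) ∈ normalizer (E.K t : Set G) := by
  have := Fintype.ofFinite (P1 F)
  by_contra h3
  have h4 : ∀ p : P1 F, ∃ (c : Λ.C) (g : PGL(2, F)), Λ.q.π c = inl g ∧ g • x = p := fun p => by
    obtain ⟨g, rfl⟩ := exists_smul_inf x
    obtain ⟨g', rfl⟩ := exists_smul_inf p
    obtain ⟨c, hc⟩ := Λ.q.pgl (g' * g⁻¹)
    exact ⟨c, _, hc, by simp [mul_smul]⟩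
  choose c g hc hg using h4
  have h5 : (a : G) * a ∉ normalizer (E.K t : Set G) := fun e =>
    h3 (mem_of_sq_mem (odd_of_mem_cor ((mem_cor a).2 h2)) (pow_orderOf_eq_one _) e)
  have h5' : (a : G)⁻¹ * (a : G)⁻¹ ∉ normalizer (E.K t : Set G) := fun e =>
    h5 (by simpa using inv_mem e)
  have h6 := E.card_lt h ht hz hm ha (c := fun i : P1 F × Fin 3 => c i.1 * a ^ (i.2 : ℕ))
    fun ⟨p, i⟩ ⟨p', j⟩ e => by
      have := h1 ((c p * a ^ (i : ℕ))⁻¹ * (c p' * a ^ (j : ℕ))) ((g p)⁻¹ * g p')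
        (by simp [hc, π_of_mem_cor ((mem_cor a).2 h2)]) e
      rw [mul_smul, inv_smul_eq_iff, hg, hg] at this
      subst this
      fin_cases i <;> fin_cases j <;> simp_all [pow_two, mul_assoc]
  rw [Fintype.card_prod, ← Nat.card_eq_fintype_card, card_P1', Fintype.card_fin] at h6
  push_cast at h6
  omega

variable {y : P1 F} {j : PGL(2, F)} (f : Λ.Fr t x y j) (h2 : ∀ g : PGL(2, F), g • x = x →
  ∃ c : Λ.C, Λ.q.π c = inl g ∧ (c : G) ∈ normalizer (E.K t : Set G))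

include f h2

theorem mem_of_fix {c : Λ.C} (hc : Λ.q.π c • x = x) : (c : G) ∈ normalizer (E.K t : Set G) := by
  let D := lcSD h.sd
  have hk : ∀ c : Λ.C, Λ.q.π c = 1 → (c : G) ∈ normalizer (E.K t : Set G) := fun c hc =>
    (ker_sd h.sd hc).elim (E.core_le h ht hz hm ha h1) fun e => (mul_mem_cancel_left
      (E.mem_norm (mem_center_iff.1 zc'_mem _).symm)).1 (E.core_le h ht hz hm ha h1 e)
  obtain ⟨g, g1, g2⟩ := exists_smul_two (a := x) (b := Λ.q.π c • y)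
    (fun e => f.ne (smul_left_cancel _ (hc.trans e))) f.ne
  obtain ⟨d, d1, d2⟩ := h2 g g1
  have b1 : Λ.q.π (d * c) • x = x := by rw [map_mul, mul_smul, hc, d1, inl_smul_P1, g1]
  have b2 : Λ.q.π (d * c) • y = y := by rw [map_mul, mul_smul, d1, inl_smul_P1, g2]
  refine (mul_mem_cancel_left d2).1 (?_ : ((d * c : Λ.C) : G) ∈ _)
  generalize d * c = b at b1 b2
  have u2 := (LC.orderOf_conj' b t).trans f.two
  have uz := D.conj_ne (fun e => hz (congrArg _ e)) b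
  have fx : ∀ {p}, Λ.q.π b • p = p → j • p = p → (D.π (b * t * b⁻¹)).left • p = p :=
    fun {p} e1 e2 => by
      rw [← inl_smul_P1, ← D.π_inv u2]
      change Λ.q.π _ • p = p
      rw [map_mul, map_mul, map_inv, mul_smul, mul_smul, inv_smul_eq_iff.2 e1.symm, f.π,
        inl_smul_P1, e2, e1]
  obtain ⟨a, a1, a2⟩ := D.fib (LC.sq_of_two f.two) (LC.sq_of_two u2) (f.π.trans (by
    rw [D.π_inv u2, eq_of_invol_fix f.ne ⟨f.j2, f.j1 h.sd, f.jx, f.jy⟩
      ⟨LC.sq_of_two (D.orderOf_left u2 uz), D.left_ne u2 uz, fx b1 f.jx, fx b2 f.jy⟩]))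
  have a3 : Λ.q.π a = 1 := D.π_of_mem a1
  refine (mul_mem_cancel_left (inv_mem (hk a a3))).1 ?_
  rcases a2 with e | e
  · refine E.mem_norm (c := a⁻¹ * b) ?_
    rw [Commute, SemiconjBy, show a⁻¹ * b * t = a⁻¹ * (b * t * b⁻¹) * b by group, e]; group
  · refine absurd (by rw [map_mul, map_inv, a3, inv_one, one_mul, b1]) (move_of_swap h.sd h.δ
      (c := a⁻¹ * b) (LC.sq_of_two f.two) ?_ (p := x) (by rw [f.π, inl_smul_P1, f.jx]))
    rw [show a⁻¹ * b * t * (a⁻¹ * b)⁻¹ = a⁻¹ * (b * t * b⁻¹) * a by group, e, ← mul_assoc a⁻¹,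
      ← D.z_comm]
    change Λ.zc' * _ * _ * _ = _
    group

end num

/-- The hyperplane attached to a point of the projective line. -/
def Kp (t : Λ.C) (x p : P1 F) : Subgroup G := ⨅ (c : Λ.C) (_ : Λ.q.π c • x = p), E.K (c * t * c⁻¹)

omit [Finite F] in
theorem mem_Kp {x p : P1 F} {v : G} :
    v ∈ E.Kp t x p ↔ ∀ c : Λ.C, Λ.q.π c • x = p → v ∈ E.K (c * t * c⁻¹) := by
  simp [Kp, mem_iInf]

omit [Finite F] in
theorem Kp_eq {x : P1 F} (hs : ∀ c : Λ.C, Λ.q.π c • x = x → (c : G) ∈ normalizer (E.K t : Set G))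
    (c : Λ.C) : E.Kp t x (Λ.q.π c • x) = E.K (c * t * c⁻¹) :=
  le_antisymm (fun _ hv => E.mem_Kp.1 hv c rfl) fun _ hv => E.mem_Kp.2 fun d hd =>
    E.K_eq_iff.2 (hs (c⁻¹ * d) (by rw [map_mul, map_inv, mul_smul, hd, inv_smul_smul])) ▸ hv

omit [Finite F] in
theorem conj_mem_Kp {x p : P1 F} {v : G} (g : Λ.C) (hv : v ∈ E.Kp t x p) :
    g * v * (g : G)⁻¹ ∈ E.Kp t x (Λ.q.π g • p) := E.mem_Kp.2 fun c hc => by
  simpa [mul_assoc] using E.conj_mem_K g (E.mem_Kp.1 hv (g⁻¹ * c)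
    (by rw [map_mul, map_inv, mul_smul, hc, inv_smul_smul]))

include h in
theorem Kp_fix {x y : P1 F} {j : PGL(2, F)} (f : Λ.Fr t x y j)
    (hs : ∀ c : Λ.C, Λ.q.π c • x = x → (c : G) ∈ normalizer (E.K t : Set G)) {u : Λ.C}
    (hu : orderOf u = 2) (hz : (u : G) ≠ Λ.z) {p : P1 F} (hp : Λ.q.π u • p = p) :
    E.Kp t x p = E.K u ∨ E.Kp t x p = E.K (Λ.zc' * u) := by
  obtain ⟨c, cC, -, e⟩ := cov_C.exists_conj_out h.sd ((orderOf_coe t).trans f.two)
    ((orderOf_coe u).trans hu) f.uz hz t.2 u.2 t.2 u.2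
  lift c to Λ.C using cC
  obtain rfl : c * t * c⁻¹ = u := Subtype.ext e
  obtain ⟨p, rfl⟩ : ∃ p', p = Λ.q.π c • p' := ⟨_, (smul_inv_smul _ p).symm⟩
  rw [map_mul, map_mul, map_inv, mul_smul, mul_smul, inv_smul_smul, smul_left_cancel_iff, f.π,
    inl_smul_P1] at hp
  by_cases h1 : x = p
  · exact Or.inl (h1 ▸ E.Kp_eq hs c)
  obtain rfl : y = p := by_contra fun h2 =>
    f.j1 h.sd (eq_one_of_fix_three f.ne h1 h2 f.jx f.jy hp)
  obtain ⟨s, e1, -⟩ := exists_swap h.sd f.two f.uz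
  right
  rw [← f.swap h.sd h.δ e1, ← mul_smul, ← map_mul, E.Kp_eq hs,
    show c * s * t * (c * s)⁻¹ = c * (s * t * s⁻¹) * c⁻¹ by group, e1, ← mul_assoc,
    mem_center_iff.1 zc'_mem c, mul_assoc, mul_assoc, mul_assoc]

include h in
theorem borel {x y : P1 F} (f : Λ.Fr t x y (aff (-1) 0)) {m : ℤ} (hm : Nat.card F = r * m + 1)
    (ha : av V W t = (c₀ + 1 + m : ℤ)) (h1 : ∀ (c : Λ.C) (g : PGL(2, F)), Λ.q.π c = inl g →
      (c : G) ∈ normalizer (E.K t : Set G) → g • x = x)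
    (hs : ∀ c : Λ.C, Λ.q.π c • x = x → (c : G) ∈ normalizer (E.K t : Set G)) : False := by
  have ht := (orderOf_coe t).trans f.two
  let D := lcSD h.sd
  let N := (nul Λ.z).subgroupOf Λ.C
  have : N.Normal := ⟨fun a ha c => (isNull_nul _).norm _ (comm_z c) _ ha⟩
  let k := QuotientGroup.mk' N
  have hk := QuotientGroup.mk'_surjective N
  have k1 : ∀ {a : Λ.C}, k a = 1 ↔ (a : G) ∈ nul Λ.z := QuotientGroup.eq_one_iff _
  have ker : ∀ {M}, nul Λ.z ≤ M → k.ker ≤ M.subgroupOf Λ.C := fun hM a ha => hM (k1.1 ha)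
  have mem : ∀ {M}, nul Λ.z ≤ M → ∀ a : Λ.C, k a ∈ (M.subgroupOf Λ.C).map k ↔ (a : G) ∈ M :=
    fun hM a => by rw [← mem_comap, comap_map_eq_self (ker hM), mem_subgroupOf]
  have NK : ∀ p, nul Λ.z ≤ E.Kp t x p := fun p _ hv => E.mem_Kp.2 fun _ _ => E.nul_le_K _ hv
  have tr : ∀ p : P1 F, ∃ (c : Λ.C) (g : PGL(2, F)), Λ.q.π c = inl g ∧ g • x = p := fun p => by
    obtain ⟨g, rfl⟩ := exists_smul_inf x
    obtain ⟨g', rfl⟩ := exists_smul_inf p
    obtain ⟨c, hc⟩ := Λ.q.pgl (g' * g⁻¹)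
    exact ⟨c, _, hc, by simp [mul_smul]⟩
  choose c g hc hg using tr
  have Kc : ∀ p, E.Kp t x p = E.K (c p * t * (c p)⁻¹) := fun p => by
    rw [← E.Kp_eq hs, hc, inl_smul_P1, hg]
  have WC := E.le.trans (cor_le _)
  have hB : ((W.subgroupOf Λ.C).map k).Normal :=
    Normal.map ⟨fun a ha c => E.cj c ha⟩ _ hk
  let M : Mnm (Λ.C ⧸ N) F :=
    { π := QuotientGroup.lift N Λ.q.π fun a ha => π_of_mem_cor (nul_le _ ha)
      B := (W.subgroupOf Λ.C).map k
      I := k '' {u | orderOf u = 2 ∧ (u : G) ≠ Λ.z}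
      K p := ((E.Kp t x p).subgroupOf Λ.C).map k
      t := k t
      normal := hB
      odd := (odd_of_le_cor E.le).of_dvd_nat ((card_map_dvd _ _).trans
        (Nat.card_congr (subgroupOfEquivOfLe WC).toEquiv).dvd)
      πB := by
        rintro _ ⟨a, ha, rfl⟩
        exact π_of_mem_cor (E.le ha)
      sq := by
        rintro _ ⟨u, hu, rfl⟩
        rw [← map_mul, LC.sq_of_two hu.1, map_one]
      conjI := by
        rintro g _ ⟨u, hu, rfl⟩
        obtain ⟨g, rfl⟩ := hk g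
        exact ⟨g * u * g⁻¹, ⟨(LC.orderOf_conj' g u).trans hu.1, fun e =>
          D.conj_ne (fun e => hu.2 (congrArg _ e)) g (Subtype.ext e)⟩, rfl⟩
      conjK := by
        rintro g p _ ⟨a, ha, rfl⟩
        obtain ⟨g, rfl⟩ := hk g
        exact ⟨g * a * g⁻¹, E.conj_mem_Kp g ha, rfl⟩
      bot := by
        rintro _ ⟨a, -, rfl⟩ ha
        refine k1.2 (E.le_nul h ht f.uz (M := ⨅ p, E.Kp t x p)
          (fun c => (iInf_le _ _).trans (E.Kp_eq hs c).le) (fun c hc v hv => ?_)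
          (mem_iInf.2 fun p => (mem (NK p) a).1 (ha p)))
        lift c to Λ.C using mem_centralizer_singleton_iff.2 hc
        exact mem_iInf.2 fun p => smul_inv_smul (Λ.q.π c) p ▸ E.conj_mem_Kp c (mem_iInf.1 hv _)
      fix := by
        rintro _ ⟨u, hu, rfl⟩ p hp _ ⟨a, ha, rfl⟩
        refine ⟨⁅u, a⁆, ?_, rfl⟩
        have h2 : ((⁅u, a⁆ : Λ.C) : G) ∈ W := mul_mem (E.cj u ha) (inv_mem ha)
        have h3 := conj_comm_elt (LC.sq_of_two hu.1) a
        rcases E.Kp_fix h f hs hu.1 hu.2 hp with e | e <;> rw [SetLike.mem_coe, mem_subgroupOf, e]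
        · exact E.mem_K_of_inv h2 (congrArg Subtype.val h3)
        · refine E.mem_K_of_inv h2 (congrArg Subtype.val (?_ : _ * ⁅u, a⁆ * _⁻¹ = ⁅u, a⁆⁻¹))
          rw [show Λ.zc' * u * ⁅u, a⁆ * (Λ.zc' * u)⁻¹ = Λ.zc' * (u * ⁅u, a⁆ * u⁻¹) * Λ.zc'⁻¹ by group,
            h3, ← mem_center_iff.1 zc'_mem, mul_inv_cancel_right]
      exfix := by
        rintro _ ⟨u, hu, rfl⟩
        obtain ⟨p, _, j, f'⟩ := exists_fr h.sd h.δ hu.1 hu.2
        exact ⟨p, (congrArg (· • p) f'.π).trans ((inl_smul_P1 _ _).trans f'.jx)⟩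
      lift g := (Λ.q.pgl g).elim fun c hc => ⟨k c, hc⟩
      tI := ⟨t, ⟨f.two, f.uz⟩, rfl⟩
      πt := f.π
      two := D.two_ne }
  have idx : ∀ p, ∀ Y ≤ M.B, (M.K p).relIndex Y ∣ r := fun p Y hY => by
    refine (relIndex_dvd_of_normal (le_normalizer_of_conj ?_) hY).trans ?_
    · rintro _ ⟨a, ha, rfl⟩ _ ⟨b, hb, rfl⟩
      exact ⟨a * b * a⁻¹, (mem_normalizer_iff.1 (E.le_norm (NK p) (Kc p ▸ E.K_le _) ha) b).1 hb, rfl⟩
    · rw [relIndex_map_map, sup_eq_left.2 (ker (NK p)), sup_eq_left.2 (ker E.ge),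
        relIndex_subgroupOf WC, Kc]
      exact E.relIndex_K h ((LC.orderOf_conj' _ _).trans ht) fun e =>
        D.conj_ne (fun e => f.uz (congrArg _ e)) (c p) (Subtype.ext e)
  obtain ⟨_, ⟨e, he, rfl⟩, e1, e2, e3⟩ := M.exists_small hB le_rfl E.prime E.two (by
      rintro _ ⟨a, ha, rfl⟩
      rw [← map_pow]
      exact k1.2 (E.pow a ha)) (by
      rintro _ ⟨a, ha, rfl⟩ _ ⟨b, hb, rfl⟩
      rw [← commutatorElement_eq_one_iff_mul_comm, ← map_commutatorElement]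
      exact k1.2 (E.comm a ha b hb)) (by
      by_contra! hn
      obtain ⟨w, w1, w2⟩ := exists_ne_ne x y
      obtain ⟨u2, uz⟩ : orderOf ((c w)⁻¹ * t * (c w)⁻¹⁻¹) = 2 ∧ _ :=
        ⟨(LC.orderOf_conj' _ _).trans f.two, D.conj_ne (fun e => f.uz (congrArg _ e)) (c w)⁻¹⟩
      have := h1 ((c w)⁻¹ * t * (c w)⁻¹⁻¹) ((g w)⁻¹ * aff (-1) 0 * g w) (by simp [hc, f.π])
        (mem_normalizer_fintype fun v hv => by
          lift v to Λ.C using WC (E.K_le t hv)
          have := (hn _ ⟨_, ⟨u2, fun e => uz (Subtype.ext e)⟩, rfl⟩ _ ⟨v, E.K_le t hv, rfl⟩).eq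
          rw [← commutatorElement_eq_one_iff_mul_comm, ← map_commutatorElement] at this
          simpa [commutatorElement_def] using mul_mem (E.nul_le_K t (k1.1 this)) hv)
      rw [mul_smul, mul_smul, inv_smul_eq_iff, hg] at this
      exact f.j1 h.sd (eq_one_of_fix_three f.ne w1 w2 f.jx f.jy this)) le_rfl (by
      rw [← relIndex_inf_mul_relIndex, pow_two]
      exact mul_dvd_mul (idx _ _ (inf_le_right.trans inf_le_left)) (idx _ _ inf_le_left))
    fun e => E.prime.one_lt.ne' (Nat.dvd_one.1 (Int.natCast_dvd_natCast.1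
      ((dvd_add_right (Dvd.intro _ rfl)).1 (hm ▸ Int.natCast_dvd_natCast.2 e))))
  obtain ⟨a, a1, s, s1, a2, s2, a3⟩ := TDih.exists_fixed_mul_inverted (odd_of_le_cor E.le)
    (LC.sq_of_two ht) (E.C_le_norm t.2) he
  lift a to Λ.C using WC a1
  lift s to Λ.C using WC s1
  obtain rfl : e = a * s := Subtype.ext a3
  have at' : Commute a t := (mul_inv_eq_iff_eq_mul.1 (Subtype.ext a2 : t * a * t⁻¹ = a)).symm
  have s3 : k s = 1 := k1.2 (mem_of_sq_mem (odd_of_mem_cor (E.le s1)) (pow_orderOf_eq_one _)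
    ((k1 (a := s * s)).1 (by
      have h2 : Commute (k s) (k t) := by
        rw [← inv_mul_cancel_left (k a) (k s), ← map_mul]
        exact (at'.map k).inv_left.mul_left e1
      nth_rewrite 1 [map_mul, ← mul_inv_cancel_right (k s) (k t), h2.eq]
      rw [← map_inv, ← map_mul, ← map_mul, show t * s * t⁻¹ = s⁻¹ from Subtype.ext s2, ← map_mul,
        inv_mul_cancel, map_one])))
  rw [map_mul, s3, mul_one] at e2 e3
  have b1 : 2 * (fixDim V (zpowers (a : G)) : ℤ) ≤ n + c₀ - Nat.card F + 2 * m + 2 := by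
    obtain ⟨p, p1, p2⟩ : ∃ p, Λ.q.π t • p = p ∧ (a : G) ∉ E.Kp t x p := by
      by_contra! h2
      exact e2 ⟨(mem (NK _) a).2 (h2 _ (M.t_fix hB le_rfl (Or.inr rfl))),
        (mem (NK _) a).2 (h2 _ (M.t_fix hB le_rfl (Or.inl rfl)))⟩
    rcases E.Kp_fix h f hs f.two f.uz p1 with e | e <;> rw [e] at p2
    · exact ((Sec.tor h ht (comm_z t) E.toSec f.uz).2 a a1 (at'.map Λ.C.subtype)
        fun e => p2 (E.mem_K_of_cor a1 e)).2.2 m hm
    · exact ((Sec.tor h ((orderOf_coe _).trans (D.orderOf_z_mul f.two fun e => f.uz (congrArg _ e)))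
        (comm_z _) E.toSec fun e => D.z_mul_ne f.two (Subtype.ext e)).2 a a1
        ((comm_z a).mul_right (at'.map Λ.C.subtype)) fun e => p2 (E.mem_K_of_cor a1 e)).2.2 m hm
  have := Fintype.ofFinite Fˣ
  have b2 := E.count h ht f.uz (c := fun b : Fˣ => c (pt b)) (B := zpowers (a : G)) (fun i j e => by
      have := h1 ((c (pt i))⁻¹ * c (pt j)) ((g (pt i))⁻¹ * g (pt j)) (by simp [hc]) e
      rw [mul_smul, inv_smul_eq_iff, hg, hg, pt_inj] at this
      exact Units.ext this.symm)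
    (fun b => zpowers_le_of_mem (Kc _ ▸ (mem (NK _) a).1 (e3 b b.ne_zero))) (zpowers_le_of_mem a1)
  rw [← Nat.card_eq_fintype_card, Nat.card_units, Nat.cast_sub Nat.card_pos, Nat.cast_one] at b2
  have b3 := mul_le_mul_of_nonneg_left (E.fix_K h ht ha)
    (show (0 : ℤ) ≤ Nat.card F - 1 by have := h.big; omega)
  have b4 : 0 < m := by nlinarith [h.big, E.three_le]
  nlinarith [E.fix_W h ht f.uz ha, h.small]

end El

theorem Sm.elem (h : Λ.Sm c₀ n V) {W : Subgroup G} {r : ℕ} (hr : r.Prime) (hN : nul Λ.z ≤ W)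
    (hA : W ≤ cor Λ.z) (hn : ∀ c, Commute c Λ.z → ∀ x ∈ W, c * x * c⁻¹ ∈ W)
    (hE : ∀ a ∈ W, a ^ r ∈ nul Λ.z) (hc : ∀ a ∈ W, ∀ b ∈ W, ⁅a, b⁆ ∈ nul Λ.z) :
    (∀ t, orderOf t = 2 → Commute t Λ.z → ∀ a ∈ W, ⁅a, t⁆ ∈ nul Λ.z) ∧
      (nul Λ.z).relIndex W ∣ r := by
  by_cases hW : W ≤ nul Λ.z
  · refine ⟨fun t _ ht a ha => ?_, relIndex_eq_one.2 hW ▸ one_dvd r⟩
    simpa [commutatorElement_def, mul_assoc] using
      mul_mem (hW ha) ((isNull_nul _).norm t ht _ (inv_mem (hW ha)))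
  have E : Λ.El W r := ⟨⟨hr, fun e => hW fun a ha => mem_of_sq_mem (odd_of_mem_cor (hA ha))
    (pow_orderOf_eq_one a) (by simpa [e, pow_two] using hE a ha), hA, hn, hE⟩, hN, hc⟩
  classical
  have := Fintype.ofFinite (oddCore Λ.C)
  let D := h.hyp.lc
  obtain ⟨t₀, t2, tz, -⟩ := exists_outer_sd h.sd
  replace tz : t₀ ≠ D.z := fun e => tz (congrArg _ e)
  have f : Λ.Fr (D.rep t₀ (aff (-1) 0)) inf (pt 0) (aff (-1) 0) :=
    ⟨D.orderOf_rep t2 _, fun e => D.rep_ne tz _ (Subtype.ext e), inf_ne_pt 0,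
      D.π_rep t2 tz (D.isConj_of_fix t2 tz rfl (orderOf_aff_neg D.two_ne 0) (aff_smul_inf _ _)),
      aff_smul_inf _ _, by simp [aff_smul_pt]⟩
  generalize D.rep t₀ (aff (-1) 0) = t at f
  have ht := (orderOf_coe t).trans f.two
  have cj : ∀ v, orderOf v = 2 → Commute v Λ.z → v ≠ Λ.z → ∃ c : Λ.C, c * t * (c : G)⁻¹ = v :=
    fun v h1 h2 h3 => by
      have vC := mem_centralizer_singleton_iff.2 h2
      obtain ⟨c, cC, -, e⟩ := cov_C.exists_conj_out h.sd ht h1 f.uz h3 t.2 vC t.2 vC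
      exact ⟨⟨c, cC⟩, e⟩
  obtain ⟨e, he, e1, e2⟩ : ∃ e ∈ W, Commute e t ∧ e ∉ cor (t : G) := by
    by_contra! h1
    refine hW (IsNull.le_nul ⟨hA, hn, fun v h2 h3 x hx h4 => ?_⟩)
    by_cases h5 : v = Λ.z
    · exact h5 ▸ hA hx
    obtain ⟨c, rfl⟩ := cj v h2 h3 h5
    simpa [mul_assoc] using conj_mem_cor (c : G) (h1 _ (E.cj c⁻¹ hx)
      (by simpa [mul_assoc] using h4.map (MulAut.conj (c : G)⁻¹)))
  obtain ⟨m, hm⟩ : ∃ m : ℤ, Nat.card F = r * m + 1 := by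
    obtain ⟨m, hm⟩ := ((Sec.tor h ht (comm_z t) E.toSec f.uz).2 e he e1 e2).1
    exact ⟨m, by have := h.big; zify [show 1 ≤ Nat.card F by omega] at hm; omega⟩
  have ha := Sec.av_tor h ht (comm_z t) E.toSec f.uz le_rfl (E.C_le_norm t.2) he e1 e2 hm
  let H := (((normalizer (E.K t : Set G)).subgroupOf Λ.C).map Λ.q.π).comap inl
  have mH : ∀ (c : Λ.C) (g : PGL(2, F)), Λ.q.π c = inl g →
      (c : G) ∈ normalizer (E.K t : Set G) → g ∈ H := fun c g h1 h2 => ⟨c, h2, h1⟩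
  have bor : ∀ {x y}, Λ.Fr t x y (aff (-1) 0) → H ≠ MulAction.stabilizer _ x := fun f e =>
    E.borel h f hm ha (fun c g h1 h2 => e.le (mH c g h1 h2)) fun c =>
      E.mem_of_fix h ht f.uz hm ha (fun c g h1 h2 => e.le (mH c g h1 h2)) f fun g hg =>
        (e.ge hg).imp fun c hc => hc.symm
  rcases ovt f.ne (by have := h.big; omega) (H := H) (fun g h1 h2 => by
    obtain ⟨d, d1, d2⟩ := f.tor h.sd h.δ h1 h2
    exact mH d g d2 (E.mem_norm d1)) with h1 | h1 | h1 | h1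
  · exact (E.not_pair h ht f.uz hm ha f.ne fun c g h2 h3 => h1 g (mH c g h2 h3)).elim
  · exact absurd h1 (bor f)
  · exact absurd h1 (bor f.symm)
  have h2 := E.le_of_cov h ht f.uz hm ha ⟨⟨E.mem_norm (mem_center_iff.1 zc'_mem _).symm, Λ.zc'.2⟩,
    fun g => (h1.ge (mem_top g)).imp fun c hc => ⟨⟨hc.1, c.2⟩, hc.2⟩⟩
  have h3 : ∀ c : Λ.C, E.K (c * t * c⁻¹) = E.K t := fun c => by
    simpa using (E.K_eq_iff (c := c) (d := 1) (u := t)).2 (by simpa using h2 c.2)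
  have h4 := E.le_nul h ht f.uz (fun c => (h3 c).ge) fun c hc x hx =>
    (mem_normalizer_iff.1 (h2 (mem_centralizer_singleton_iff.2 hc)) x).1 hx
  refine ⟨fun v h5 h6 a ha => ?_, le_antisymm h4 (E.nul_le_K t) ▸ E.relIndex_K h ht f.uz⟩
  by_cases h7 : v = Λ.z
  · rw [h7, (comm_of_mem_cor (hA ha)).commutator_eq]
    exact one_mem _
  obtain ⟨c, rfl⟩ := cj v h5 h6 h7
  rw [← commutatorElement_inv]
  exact inv_mem (h4 ((h3 c).le (E.mem_K_of_inv (mul_mem (E.cj (c * t * c⁻¹) ha) (inv_mem ha))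
    (conj_comm_elt (LC.sq_of_two h5) a))))

end Ctx

end CL.ABG
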