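import Cfsg.Agent.INV.ABG.RegNT
import Cfsg.Agent.INV.ABG.RegFr

/-!
# Core elimination: the hyperplanes of an elementary abelian section
-/

set_option autoImplicit false

namespace CL.ABG

open Cfsg CL.Char Subgroup CL.BG3 CL.PGL2 SemidirectProduct
open scoped commutatorElement MatrixGroups

theorem relIndex_dvd_of_normal {G : Type*} [Group G] {K E Y : Subgroup G}
    (h : E ≤ normalizer (K : Set G)) (hY : Y ≤ E) : K.relIndex Y ∣ K.relIndex E := by
  have : (K.subgroupOf E).Normal := ⟨fun x hx g => (mem_normalizer_iff.1 (h g.2) x).1 hx⟩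
  have := relIndex_dvd_index_of_normal (K.subgroupOf E) (Y.subgroupOf E)
  rwa [relIndex_subgroupOf hY] at this

namespace Ctx

variable {G : Type*} [Group G] [Finite G] {F : Type*} [Field F] [Finite F]
  {Λ : Ctx G F} {c₀ n : ℤ} {V : G → ℂ}

/-- `W / nul z` is an elementary abelian normal section of `C(z)`. -/
structure El (Λ : Ctx G F) (W : Subgroup G) (r : ℕ) : Prop extends Λ.Sec W r where
  ge : nul Λ.z ≤ W
  comm : ∀ a ∈ W, ∀ b ∈ W, ⁅a, b⁆ ∈ nul Λ.z

namespace El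

variable {W : Subgroup G} {r : ℕ} (E : Λ.El W r)

include E

omit [Finite G] [Finite F] in
theorem cj (c : Λ.C) {a : G} (ha : a ∈ W) : c * a * (c : G)⁻¹ ∈ W := E.norm _ (comm_z c) a ha

omit [Finite F] in
theorem cjN {c a : G} (hc : c ∈ W) (ha : a ∈ nul Λ.z) : c * a * c⁻¹ ∈ nul Λ.z :=
  (isNull_nul _).norm c (comm_of_mem_cor (E.le hc)) a ha

/-- The hyperplane attached to an involution. -/
def K (u : Λ.C) : Subgroup G where
  carrier := {v | v ∈ W ∧ ∃ e ∈ W ⊓ cor (u : G), e⁻¹ * (v * (u * v * (u : G)⁻¹)) ∈ nul Λ.z}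
  one_mem' := ⟨one_mem _, 1, one_mem _, by simp⟩
  mul_mem' := by
    rintro v w ⟨hv, e, he, h⟩ ⟨hw, f, hf, h'⟩
    refine ⟨mul_mem hv hw, e * f, mul_mem he hf, ?_⟩
    convert mul_mem (E.cjN (inv_mem hf.1) (mul_mem h (E.comm _ (inv_mem (E.cj u hv)) _ hw))) h'
      using 1
    rw [commutatorElement_def]
    group
  inv_mem' := by
    rintro v ⟨hv, e, he, h⟩
    refine ⟨inv_mem hv, e⁻¹, inv_mem he, ?_⟩
    convert mul_mem (E.cjN he.1 (inv_mem h)) (E.comm _ hv _ (E.cj u hv)) using 1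
    rw [commutatorElement_def]
    group

omit [Finite F]

theorem K_le (u : Λ.C) : E.K u ≤ W := fun _ h => h.1

theorem nul_le_K (u : Λ.C) : nul Λ.z ≤ E.K u := fun v h => ⟨E.ge h, 1, one_mem _, by
  simpa using mul_mem h ((isNull_nul _).norm _ (comm_z u) v h)⟩

theorem mem_K_of_cor {u : Λ.C} {v : G} (h : v ∈ W) (h' : v ∈ cor (u : G)) : v ∈ E.K u :=
  ⟨h, v * v, mul_mem ⟨h, h'⟩ ⟨h, h'⟩, by
    rw [← (comm_of_mem_cor h').eq, mul_inv_cancel_right, inv_mul_cancel]; exact one_mem _⟩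

theorem mem_K_of_inv {u : Λ.C} {v : G} (h : v ∈ W) (h' : u * v * (u : G)⁻¹ = v⁻¹) : v ∈ E.K u :=
  ⟨h, 1, one_mem _, by simp [h']⟩

theorem mem_cor_of_K {u : Λ.C} (hu : orderOf (u : G) = 2) {v : G} (h : v ∈ E.K u)
    (hc : Commute v u) : v ∈ cor (u : G) := by
  obtain ⟨hv, e, he, h⟩ := h
  rw [← hc.eq, mul_inv_cancel_right] at h
  exact mem_of_sq_mem (odd_of_mem_cor (E.le hv)) (pow_orderOf_eq_one v) (((cor (u : G)).mul_mem_cancel_left
    (inv_mem (mem_inf.1 he).2)).1 ((isNull_nul _).null _ hu (comm_z u) _ h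
      ((comm_of_mem_cor he.2).inv_left.mul_left (hc.mul_left hc))))

theorem conj_mem_K (c : Λ.C) {u : Λ.C} {v : G} (h : v ∈ E.K u) :
    c * v * (c : G)⁻¹ ∈ E.K (c * u * c⁻¹) := by
  obtain ⟨hv, e, he, h⟩ := h
  refine ⟨E.cj c hv, _, ⟨E.cj c he.1, conj_mem_cor (c : G) he.2⟩, ?_⟩
  convert (isNull_nul _).norm _ (comm_z c) _ h using 1
  simp only [coe_mul, coe_inv]
  group

theorem mem_K_conj {c u : Λ.C} {v : G} : v ∈ E.K (c * u * c⁻¹) ↔ (c : G)⁻¹ * v * c ∈ E.K u :=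
  ⟨fun h => by simpa [mul_assoc] using E.conj_mem_K c⁻¹ h,
    fun h => by simpa [mul_assoc] using E.conj_mem_K c h⟩

theorem K_conj (c u : Λ.C) : E.K (c * u * c⁻¹) = (E.K u).map (MulAut.conj (c : G)).toMonoidHom := by
  ext v
  rw [E.mem_K_conj, mem_map_equiv, MulAut.conj_symm_apply]

theorem K_eq_iff {c d u : Λ.C} : E.K (c * u * c⁻¹) = E.K (d * u * d⁻¹) ↔
    (c : G)⁻¹ * d ∈ normalizer (E.K u : Set G) := by
  rw [SetLike.ext_iff, mem_normalizer_iff]
  simp only [E.mem_K_conj]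
  refine ⟨fun h v => ?_, fun h v => ?_⟩
  · simpa [mul_assoc] using (h (d * v * (d : G)⁻¹)).symm
  · simpa [mul_assoc] using (h ((d : G)⁻¹ * v * d)).symm

omit [Finite G] in
theorem le_norm {M : Subgroup G} (h1 : nul Λ.z ≤ M) (h2 : M ≤ W) : W ≤ normalizer (M : Set G) :=
  le_normalizer_of_conj fun c hc x hx => by
    simpa [commutatorElement_def] using mul_mem (h1 (E.comm c hc x (h2 hx))) hx

omit [Finite G] in
theorem C_le_norm : Λ.C ≤ normalizer (W : Set G) :=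
  le_normalizer_of_conj fun c hc _ hx => E.cj ⟨c, hc⟩ hx

theorem exists_mul {u : Λ.C} (hu : orderOf (u : G) = 2) {v : G} (h : v ∈ W) :
    ∃ c ∈ W, Commute c u ∧ ∃ s ∈ E.K u, v = c * s := by
  obtain ⟨c, hc, s, hs, e1, e2, e⟩ := TDih.exists_fixed_mul_inverted (odd_of_le_cor E.le)
    (LC.sq_of_two hu) (E.C_le_norm u.2) h
  exact ⟨c, hc, (mul_inv_eq_iff_eq_mul.1 e1).symm, s, E.mem_K_of_inv hs e2, e⟩

variable [Finite F] (h : Λ.Sm c₀ n V) {u : Λ.C} (hu : orderOf (u : G) = 2) (hz : (u : G) ≠ Λ.z)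

include h hu hz

theorem relIndex_K : (E.K u).relIndex W ∣ r := by
  have : ((E.K u).subgroupOf W).Normal := ⟨fun x hx g =>
    (mem_normalizer_iff.1 (E.le_norm (E.nul_le_K u) (E.K_le u) g.2) x).1 hx⟩
  have h1 : (W ⊓ centralizer {(u : G)}).subgroupOf W ⊔ (E.K u).subgroupOf W = ⊤ :=
    eq_top_iff.2 fun v _ => by
      obtain ⟨c, hc, h1, s, hs, e⟩ := E.exists_mul hu v.2
      rw [show v = ⟨c, hc⟩ * ⟨s, hs.1⟩ from Subtype.ext e]
      exact mul_mem_sup ⟨hc, mem_centralizer_singleton_iff.2 h1⟩ hs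
  rw [relIndex, ← relIndex_top_right, ← h1, relIndex_sup_right, relIndex_subgroupOf inf_le_left,
    ← inf_relIndex_right, show E.K u ⊓ (W ⊓ centralizer {(u : G)}) =
      cor (u : G) ⊓ (W ⊓ centralizer {(u : G)}) from le_antisymm (fun v hv => ⟨E.mem_cor_of_K hu
        hv.1 (mem_centralizer_singleton_iff.1 hv.2.2), hv.2⟩)
          fun v hv => ⟨E.mem_K_of_cor hv.2.1 hv.1, hv.2⟩, inf_relIndex_right]
  exact (Sec.tor h hu (comm_z u) E.toSec hz).1

theorem le_of_lt {M : Subgroup G} (h1 : E.K u ≤ M) (h2 : M ≤ W) (h3 : ¬ M ≤ E.K u) : W ≤ M := by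
  have h4 := relIndex_mul_relIndex _ _ _ h1 h2
  have h5 := E.relIndex_K h hu hz
  have h6 := (E.prime.eq_one_or_self_of_dvd _ ((Dvd.intro _ h4).trans h5)).resolve_left
    fun e => h3 (relIndex_eq_one.1 e)
  rw [← h4, h6] at h5
  exact relIndex_eq_one.1 (Nat.dvd_one.1 ((mul_dvd_mul_iff_left E.prime.ne_zero).1
    (h5.trans (mul_one r).symm.dvd)))

/-- Distinct conjugates of the hyperplane have independent fixed spaces. -/
theorem count {ι : Type*} [Fintype ι] {c : ι → Λ.C}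
    (hc : ∀ i j, (c i : G)⁻¹ * c j ∈ normalizer (E.K u : Set G) → i = j) {B : Subgroup G}
    (hB : ∀ i, B ≤ E.K (c i * u * (c i)⁻¹)) (hW : B ≤ W) :
    Fintype.card ι * ((fixDim V (E.K u) : ℤ) - fixDim V W) ≤ fixDim V B - fixDim V W := by
  have h2 : ∀ i, orderOf ((c i * u * (c i)⁻¹ : Λ.C) : G) = 2 := fun i =>
    (LC.orderOf_conj' _ _).trans hu
  have h3 : ∀ i, ((c i * u * (c i)⁻¹ : Λ.C) : G) ≠ Λ.z := fun i e => hz (by
    rw [coe_mul, coe_mul, coe_inv, mul_inv_eq_iff_eq_mul, ← (comm_z (c i)).eq] at e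
    exact mul_left_cancel e)
  have cd : ∀ i, Nat.card (E.K (c i * u * (c i)⁻¹)) = Nat.card (E.K u) := fun i => by
    rw [E.K_conj, card_map_of_injective (MulAut.conj _).injective]
  have := sum_fix_le h.hyp.char Finset.univ (K := fun i => E.K (c i * u * (c i)⁻¹))
    (fun i _ => hB i) (fun i _ => E.K_le _) hW (fun i _ => E.le_norm (E.nul_le_K _) (E.K_le _))
    fun i _ j _ hij => E.le_of_lt h (h2 i) (h3 i) le_sup_left (sup_le (E.K_le _) (E.K_le _))
      fun e => hij (hc i j (E.K_eq_iff.1 (eq_of_le_of_card_ge (le_sup_right.trans e)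
        ((cd i).trans (cd j).symm).le).symm))
  simp only [E.K_conj, fixDim_map_conj h.hyp.char, Finset.sum_const, nsmul_eq_mul] at this
  exact this

omit hz in
theorem av_K : av V (E.K u) u = (c₀ + Nat.card F : ℤ) :=
  (h.av_inv (odd_of_le_cor ((E.K_le u).trans E.le)) hu (mem_normalizer_fintype fun v hv => by
    simpa using E.conj_mem_K u hv) fun x hx => E.mem_cor_of_K hu hx).trans (by simp)

/-- An invariant subgroup contained in all hyperplanes is null. -/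
theorem le_nul {M : Subgroup G} (h1 : ∀ c : Λ.C, M ≤ E.K (c * u * c⁻¹))
    (h2 : ∀ c, Commute c Λ.z → ∀ x ∈ M, c * x * c⁻¹ ∈ M) : M ≤ nul Λ.z := by
  have h3 := (h1 1).trans ((E.K_le _).trans E.le)
  refine IsNull.le_nul ⟨h3, h2, fun v hv hc x hx e => ?_⟩
  by_cases hv' : v = Λ.z
  · exact hv' ▸ h3 hx
  have vC := mem_centralizer_singleton_iff.2 hc
  obtain ⟨c, cC, -, rfl⟩ := cov_C.exists_conj_out h.sd hu hv hz hv' u.2 vC u.2 vC
  lift c to Λ.C using cC
  exact E.mem_cor_of_K (u := c * u * c⁻¹) hv (h1 c hx) e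

end El

end Ctx

end CL.ABG
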