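import Cfsg.Agent.INV.ABG.RegRS

/-!
# Core elimination: reduction to the root case
-/

set_option autoImplicit false

namespace CL.ABG

open Cfsg CL.Char Subgroup CL.PGL2 CL.PComp SemidirectProduct
open scoped commutatorElement MatrixGroups

theorem cor_inv {G : Type*} [Group G] (y : G) : cor y⁻¹ = cor y := by
  have : centralizer ({y⁻¹} : Set G) = centralizer {y} := by
    ext g
    simp only [mem_centralizer_singleton_iff]
    exact Commute.inv_right_iff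
  change opOf 2 _ = opOf 2 _
  rw [this]

namespace Ctx

variable {G : Type*} [Group G] [Finite G] {F : Type*} [Field F] [Finite F] {Λ : Ctx G F}

omit [Finite G] [Finite F] in
theorem Cov.mono {H K : Subgroup G} (h : Λ.Cov H) (e : H ≤ K) : Λ.Cov K :=
  ⟨e h.z, fun g => (h.pgl g).imp fun _ h => ⟨e h.1, h.2⟩⟩

/-- An odd order subgroup normalized by a cover meets `C(z)` inside the core. -/
theorem Cov.mem_cor {P : Subgroup G} (h : Λ.Cov (normalizer P))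
    (hS : IsQuasiDihedral (Λ.S : Subgroup G)) (hP : Odd (Nat.card P)) {c : G} (hc : c ∈ P)
    (hz : Commute c Λ.z) : c ∈ cor Λ.z := by
  let X := (normalizer (P : Set G)).subgroupOf Λ.C
  have : (P.comap (Λ.C.subtype.comp X.subtype)).Normal :=
    ⟨fun a ha g => (mem_normalizer_iff.1 g.2 _).1 ha⟩
  have h1 : (⟨⟨c, mem_centralizer_singleton_iff.2 hz⟩, P.le_normalizer hc⟩ : X) ∈ oddCore X :=
    CL.le_pPrimeCore (N := P.comap (Λ.C.subtype.comp X.subtype)) (Nat.coprime_two_right.2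
      (hP.of_dvd_nat (card_comap_dvd_of_injective _ _
        (Λ.C.subtype_injective.comp X.subtype_injective)))) hc
  rw [(lcSD hS).core_comap (h.cov' hS) (subtype_injective _)] at h1
  exact (ABG.mem_cor _).2 h1

variable [IsSimpleGroup G] {c₀ n : ℤ} {V : G → ℂ} (h : Λ.Sm c₀ n V)
include h

theorem Sm.nul_comm' {u a b : G} (hu : orderOf u = 2) (ha : a ∈ nul u) (hb : b ∈ nul u) :
    Commute a b := by
  obtain ⟨Λ', h', rfl⟩ := h.exists_at hu
  obtain ⟨t, -, tC, t2, tz⟩ := (cov_C (Λ := Λ')).exists_inv h'.sd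
  exact comm_of_forall_inv (fun x hx => h.inv_nul hu t2 (mem_centralizer_singleton_iff.1 tC) tz hx)
    ha hb

/-- The centralizer of the null subgroup covers `PSL₂`. -/
theorem Sm.cent_psl {g : PGL(2, F)} (hg : g ∈ pslIn F) :
    ∃ c : Λ.C, (c : G) ∈ centralizer (nul Λ.z : Set G) ∧ Λ.q.π c = inl g := by
  obtain ⟨t, -, tC, t2, tz⟩ := (cov_C (Λ := Λ)).exists_inv h.sd
  obtain ⟨x, y, j, f⟩ := exists_fr h.sd h.δ (u := ⟨t, tC⟩) ((orderOf_coe _).symm.trans t2) tz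
  have key : ∀ {x y}, Λ.Fr ⟨t, tC⟩ x y j → unipAt x ≤
      (((centralizer (nul Λ.z : Set G)).subgroupOf Λ.C).map Λ.q.π).comap inl := fun f u hu => by
    obtain ⟨v, -, rfl⟩ := exists_comm_of_unip f.ne (f.j1 h.sd) f.jx f.jy hu
    obtain ⟨c, hc⟩ := Λ.q.pgl v
    refine ⟨⁅(⟨t, tC⟩ : Λ.C), c⁆, fun a ha => ?_, by
      rw [map_commutatorElement, f.π, hc, map_commutatorElement]⟩
    have i := fun {b} => h.inv_nul (a := b) Λ.hz t2 (mem_centralizer_singleton_iff.1 tC) tz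
    have h1 := i ((mem_normalizer_iff.1 (norm_nul (comm_z c⁻¹)) a).1 ha)
    change a * (t * c * t⁻¹ * (c : G)⁻¹) = t * c * t⁻¹ * (c : G)⁻¹ * a
    have h2 : t⁻¹ = t := inv_eq_of_mul_eq_one_right (LC.sq_of_two t2)
    calc _ = (t * a⁻¹ * t⁻¹) * (t * c * t⁻¹ * (c : G)⁻¹) := by rw [i (inv_mem ha), inv_inv]
      _ = t * c * ((c⁻¹ : Λ.C) * a * ((c⁻¹ : Λ.C) : G)⁻¹)⁻¹ * t⁻¹ * (c : G)⁻¹ := by simp; group
      _ = _ := by rw [← h1, h2]; simp [mul_assoc, LC.sq_of_two t2]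
  exact pslIn_le_of_unip f.ne (key f) (key f.symm) hg

/-- The elements of `C(z)` normalizing `O(C(y))`. -/
theorem Sm.cov_cor {y : G} (hy : y ∈ nul Λ.z) :
    Λ.Cov (Λ.C ⊓ normalizer (cor y : Set G)) ∧
      Λ.C ⊓ centralizer (nul Λ.z : Set G) ≤ Λ.C ⊓ normalizer (cor y : Set G) ∧
      nul Λ.z ≤ Λ.C ⊓ normalizer (cor y : Set G) ∧
      ∀ t, orderOf t = 2 → Commute t Λ.z → t ∈ Λ.C ⊓ normalizer (cor y : Set G) := by
  have h1 : ∀ c, Commute c y → c ∈ normalizer (cor y : Set G) := fun c hc =>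
    mem_normalizer_fintype fun x => conj_mem_cor' hc
  have h2 : ∀ t, orderOf t = 2 → Commute t Λ.z → t ∈ Λ.C ⊓ normalizer (cor y : Set G) :=
    fun t t2 hc => ⟨mem_centralizer_singleton_iff.2 hc, by
      rcases eq_or_ne t Λ.z with rfl | e
      · exact h1 _ (comm_of_mem_cor (nul_le _ hy)).symm
      · exact mem_normalizer_fintype fun x hx => by
          have := conj_mem_cor t hx
          rwa [h.inv_nul Λ.hz t2 hc e hy, cor_inv] at this⟩
  obtain ⟨t, -, tC, t2, tz⟩ := (cov_C (Λ := Λ)).exists_inv h.sd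
  exact ⟨Cov.of_psl h.sd (h2 _ Λ.hz (Commute.refl _)) (t := ⟨t, tC⟩) ((orderOf_coe _).symm.trans t2)
      tz (h2 t t2 (mem_centralizer_singleton_iff.1 tC)) fun g hg =>
        (h.cent_psl hg).imp fun c hc => ⟨⟨c.2, h1 _ (hc.1 y hy).symm⟩, hc.2⟩,
    fun c hc => ⟨hc.1, h1 _ (hc.2 y hy).symm⟩,
    fun a ha => ⟨cor_le _ (nul_le _ ha), h1 _ (h.nul_comm' Λ.hz ha hy)⟩, h2⟩

/-- A nontrivial null subgroup leads to the root case. -/
theorem Sm.reduce (hN : nul Λ.z ≠ ⊥) : ∃ y ∈ nul Λ.z, y ≠ 1 ∧ (orderOf y).Prime ∧ ∃ P ≤ cor y,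
    MinP (Λ.C ⊓ normalizer (cor y : Set G)) P Λ.z ∧ (∀ c ∈ P, Commute c Λ.z → c ∈ cor Λ.z) ∧
      ∀ t, orderOf t = 2 → Commute t Λ.z → t ≠ Λ.z →
        ∃ a ∈ P, Commute a t ∧ Λ.z * a * Λ.z⁻¹ = a⁻¹ ∧ a ∉ cor t := by
  obtain ⟨y, hy, y1, hp, H⟩ := h.setup hN
  obtain ⟨h1, -, h2, h3⟩ := h.cov_cor hy
  obtain ⟨P, hP, m⟩ := exists_minP (M := Λ.C ⊓ normalizer (cor y : Set G)) (odd_cor y)
    (LC.sq_of_two Λ.hz) h1.z (fun m hm => mem_centralizer_singleton_iff.1 hm.1)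
    (fun m hm x => (mem_normalizer_iff.1 hm.2 x).1) H
  have hZ : ∀ c ∈ P, Commute c Λ.z → c ∈ cor Λ.z := fun c =>
    (h1.mono (le_normalizer_of_conj m.nm)).mem_cor h.sd m.odd
  refine ⟨y, hy, y1, hp, P, hP, m, hZ, fun t t2 hc tz => ?_⟩
  by_contra! H'
  exact h.nonroot' h1 inf_le_left h2 m hZ (h3 t t2 hc) t2 tz H'

end Ctx

end CL.ABG
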